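import Groth.Agent.WEtFieldLib.Max
import Groth.Agent.ConnBC.Tensor
import Groth.Agent.ConnBC.Main
import Groth.Agent.S9624
import Mathlib

/-! The maximal weakly étale subalgebra commutes with extensions of the ground field. -/

set_option autoImplicit false
universe u

open TensorProduct Polynomial

namespace Groth.Agent.WEtMaxLib

variable {K : Type u} [Field K] {A : Type u} [CommRing A] [Algebra K A]

local notation "𝔅" => EtAlgD.maxWeaklyEtale K A

/-- Idempotents belong to the maximal weakly étale subalgebra. -/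
theorem idempotent_mem_max {e : A} (he : IsIdempotentElem e) : e ∈ 𝔅 := by
  let f : (Fin 2 → K) →ₐ[K] A :=
    AlgHom.ofLinearMap
      ((LinearMap.toSpanSingleton K A e).comp (LinearMap.proj 0) +
        (LinearMap.toSpanSingleton K A (1 - e)).comp (LinearMap.proj 1))
      (by simp) (fun x y => by
        simp only [LinearMap.add_apply, LinearMap.comp_apply, LinearMap.proj_apply, LinearMap.toSpanSingleton_apply,
          Pi.mul_apply, Algebra.smul_def, map_mul]
        have h : e * e = e := he
        linear_combination (-(algebraMap K A (x 0) * algebraMap K A (y 0)) + algebraMap K A (x 0) * algebraMap K A (y 1) +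
            algebraMap K A (x 1) * algebraMap K A (y 0) - algebraMap K A (x 1) * algebraMap K A (y 1)) * h)
  haveI := Groth.Agent.S1977.weaklyEtale_range f
  refine WEtFieldLib.le_max f.range ⟨![1, 0], ?_⟩
  show (1 : K) • e + (0 : K) • (1 - e) = e
  simp

/-- An element of `A` whose image in `F ⊗ A` is in the maximal weakly étale subalgebra is so. -/
theorem mem_max_of_one_tmul {F : Type u} [Field F] [Algebra K F] {a : A}
    (h : (1 : F) ⊗ₜ[K] a ∈ EtAlgD.maxWeaklyEtale K (F ⊗[K] A)) : a ∈ 𝔅 := by
  let i : A →ₐ[K] F ⊗[K] A := Algebra.TensorProduct.includeRight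
  have hi : Function.Injective i := Algebra.TensorProduct.includeRight_injective (algebraMap K F).injective
  have hm : (1 : F) ⊗ₜ[K] a ∈ (EtAlgD.maxWeaklyEtale K i.range).map i.range.val := by
    rw [WEtFieldLib.max_map_val]
    exact ⟨h, a, rfl⟩
  obtain ⟨y, hy, hy'⟩ := hm
  haveI := Groth.Agent.S1977.result K i.range
  let g := (AlgEquiv.ofInjective i hi).symm.toAlgHom
  have hga : g y = a := by
    apply (AlgEquiv.ofInjective i hi).injective
    rw [show (AlgEquiv.ofInjective i hi) (g y) = y from (AlgEquiv.ofInjective i hi).apply_symm_apply y]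
    exact Subtype.ext hy'
  exact hga ▸ WEtFieldLib.map_le_max g (EtAlgD.maxWeaklyEtale K i.range) ⟨y, hy, rfl⟩

/-- Idempotents of `F ⊗ A` lie in `F ⊗ 𝔅`, for `F/K` finite Galois. -/
theorem idempotent_mem_range {F : Type u} [Field F] [Algebra K F] [FiniteDimensional K F] [IsGalois K F]
    {z : F ⊗[K] A} (hz : IsIdempotentElem z) :
    z ∈ (Algebra.TensorProduct.map (AlgHom.id K F) (𝔅).val).range := by
  classical
  let b := Module.Free.chooseBasis K F
  let T : F → (F ⊗[K] A →ₗ[K] A) := fun c =>
    (TensorProduct.lid K A).toLinearMap ∘ₗ LinearMap.rTensor A ((Algebra.trace K F).comp (LinearMap.mulLeft K c))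
  have hT : ∀ c x a, T c (x ⊗ₜ[K] a) = Algebra.trace K F (c * x) • a := by intros; simp [T]
  have hexp : z = ∑ j, b j ⊗ₜ[K] T (b.traceDual j) z := by
    clear hz
    have key : ∀ x : F, ∑ j, Algebra.trace K F (b.traceDual j * x) • b j = x := by
      intro x
      have : ∑ j, ((Algebra.trace K F).comp (LinearMap.mulLeft K (b.traceDual j))).smulRight (b j) =
          LinearMap.id := b.ext fun i => by
        simp [LinearMap.sum_apply, Module.Basis.trace_traceDual_mul]
      simpa [LinearMap.sum_apply] using congrArg (fun l => l x) this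
    induction z using TensorProduct.induction_on with
    | zero => simp
    | tmul x a =>
      conv_lhs => rw [← key x]
      rw [TensorProduct.sum_tmul]
      exact Finset.sum_congr rfl fun j _ => by rw [hT, TensorProduct.smul_tmul]
    | add x y hx hy =>
      simp only [map_add, TensorProduct.tmul_add, Finset.sum_add_distrib]
      exact congrArg₂ (· + ·) hx hy
  have haut : ∀ c : F, (1 : F) ⊗ₜ[K] T c z =
      ∑ σ : F ≃ₐ[K] F, (σ c ⊗ₜ[K] (1 : A)) * Algebra.TensorProduct.map σ.toAlgHom (AlgHom.id K A) z := by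
    intro c
    clear hexp hz
    induction z using TensorProduct.induction_on with
    | zero => simp
    | tmul x a =>
      simp only [Algebra.TensorProduct.map_tmul, AlgHom.coe_id, id_eq, Algebra.TensorProduct.tmul_mul_tmul, one_mul]
      rw [← TensorProduct.sum_tmul, hT, TensorProduct.tmul_smul, TensorProduct.smul_tmul',
        ← Algebra.algebraMap_eq_smul_one, trace_eq_sum_automorphisms]
      simp
    | add x y hx hy => simp only [map_add, TensorProduct.tmul_add, hx, hy, mul_add, Finset.sum_add_distrib]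
  have hmem : ∀ c : F, T c z ∈ 𝔅 := by
    intro c
    refine mem_max_of_one_tmul (F := F) ?_
    rw [haut c]
    refine sum_mem fun σ _ => mul_mem ?_ ?_
    · haveI : Algebra.FormallyEtale K F := Algebra.FormallyEtale.of_isSeparable K F
      haveI : Algebra.Etale K F := ⟨Algebra.FormallyEtale.of_isSeparable K F, Algebra.FinitePresentation.of_finiteType.mp inferInstance⟩
      haveI := Groth.Agent.S1977.weaklyEtale_range
        (Algebra.TensorProduct.includeLeft : F →ₐ[K] F ⊗[K] A)
      exact WEtFieldLib.le_max (Algebra.TensorProduct.includeLeft : F →ₐ[K] F ⊗[K] A).range ⟨σ c, rfl⟩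
    · exact idempotent_mem_max (hz.map _)
  rw [hexp]
  exact sum_mem fun j _ => ⟨b j ⊗ₜ[K] ⟨_, hmem _⟩, rfl⟩

theorem exists_galois (E : Type u) [Field E] [Algebra K E] [IsGalois K E] {ι : Type u} [Finite ι] (g : ι → E) :
    ∃ F : IntermediateField K E, FiniteDimensional K F ∧ IsGalois K F ∧ ∀ i, g i ∈ F := by
  haveI : FiniteDimensional K (IntermediateField.adjoin K (Set.range g)) :=
    IntermediateField.finiteDimensional_adjoin (fun x _ => (IsGalois.integral K x))
  exact ⟨IntermediateField.normalClosure K (IntermediateField.adjoin K (Set.range g)) E, inferInstance,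
    inferInstance, fun i => IntermediateField.le_normalClosure _ (IntermediateField.subset_adjoin K _ ⟨i, rfl⟩)⟩

theorem lTensor_mem_adjoin (L : Type u) [Field L] [Algebra K L] (w : L ⊗[K] (𝔅 : Subalgebra K A)) :
    LinearMap.lTensor L (𝔅).val.toLinearMap w ∈
      Algebra.adjoin L ((Algebra.TensorProduct.includeRight : A →ₐ[K] L ⊗[K] A) '' ((𝔅 : Subalgebra K A) : Set A)) := by
  induction w using TensorProduct.induction_on with
  | zero => simp
  | tmul a b =>
    rw [show (LinearMap.lTensor L (𝔅).val.toLinearMap) (a ⊗ₜ[K] b) = a • ((1 : L) ⊗ₜ[K] (b : A)) by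
      simp [TensorProduct.smul_tmul']]
    exact Subalgebra.smul_mem _ (Algebra.subset_adjoin (Set.mem_image_of_mem _ b.2)) _
  | add a b ha hb => rw [map_add]; exact add_mem ha hb

set_option maxHeartbeats 1000000 in
/-- Idempotents of `K̄ ⊗ A` lie in `K̄ ⊗ 𝔅`. -/
theorem idempotent_mem_range_algebraicClosure {e : AlgebraicClosure K ⊗[K] A} (he : IsIdempotentElem e) :
    e ∈ (Algebra.TensorProduct.map (AlgHom.id K (AlgebraicClosure K)) (𝔅).val).range := by
  classical
  rcases subsingleton_or_nontrivial A with hA | hA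
  · haveI : Subsingleton (AlgebraicClosure K ⊗[K] A) := by
      refine subsingleton_of_zero_eq_one ?_
      rw [Algebra.TensorProduct.one_def, Subsingleton.elim (1 : A) 0, TensorProduct.tmul_zero]
    rw [Subsingleton.elim e 0]; exact zero_mem _
  let Ω := AlgebraicClosure K
  obtain ⟨q, hq⟩ := ExpChar.exists K
  haveI : Nontrivial (Ω ⊗[K] A) :=
    Algebra.TensorProduct.nontrivial_of_algebraMap_injective_of_flat_left (R := K) (A := Ω) (B := A)
      (algebraMap K A).injective
  haveI : ExpChar (Ω ⊗[K] A) q := expChar_of_injective_algebraMap (algebraMap K _).injective q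
  obtain ⟨S, hS⟩ := TensorProduct.exists_finset (R := K) e
  let E := separableClosure K Ω
  have hpi : ∀ x : Ω, ∃ n : ℕ, x ^ q ^ n ∈ E := fun x => by
    haveI : ExpChar E q := expChar_of_injective_algebraMap (algebraMap K E).injective q
    haveI : IsPurelyInseparable E Ω := separableClosure.isPurelyInseparable K Ω
    obtain ⟨n, y, hy⟩ := IsPurelyInseparable.pow_mem E q x
    exact ⟨n, hy ▸ y.2⟩
  choose n hn using hpi
  let N := S.sup fun p => n p.1
  have hN : ∀ p ∈ S, p.1 ^ q ^ N ∈ E := fun p hp => by
    obtain ⟨d, hd⟩ := Nat.exists_eq_add_of_le (Finset.le_sup (f := fun p => n p.1) hp)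
    rw [show N = n p.1 + d from hd, pow_add, pow_mul]
    exact pow_mem (hn p.1) _
  haveI : IsGalois K E := separableClosure.isGalois K Ω
  obtain ⟨F, hFfin, hFgal, hmemF⟩ :=
    exists_galois (K := K) E (fun p : {p // p ∈ S} => (⟨p.1.1 ^ q ^ N, hN p.1 p.2⟩ : E))
  let v : F →ₐ[K] Ω := E.val.comp F.val
  let f : F ⊗[K] A →ₐ[K] Ω ⊗[K] A := Algebra.TensorProduct.map v (AlgHom.id K A)
  have hf : Function.Injective f := fun x y hxy =>
    Module.Flat.rTensor_preserves_injective_linearMap (M := A) v.toLinearMap v.toRingHom.injective hxy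
  have hpow : e ^ q ^ N = e := by
    obtain ⟨m, hm⟩ : ∃ m, q ^ N = m + 1 := ⟨q ^ N - 1, (Nat.succ_pred_eq_of_pos (pow_pos (expChar_pos K q) N)).symm⟩
    rw [hm, he.pow_succ_eq]
  obtain ⟨z, rfl⟩ : ∃ z, f z = e := by
    refine ⟨∑ p ∈ S.attach, (⟨_, hmemF p⟩ : F) ⊗ₜ[K] (p.1.2 ^ q ^ N), ?_⟩
    rw [map_sum, ← hpow, hS, sum_pow_char_pow, ← Finset.sum_attach S (fun p => (p.1 ⊗ₜ[K] p.2) ^ q ^ N)]
    exact Finset.sum_congr rfl fun p _ => by simp [f, v, Algebra.TensorProduct.tmul_pow]
  have hz : IsIdempotentElem z := hf (by rw [map_mul]; exact he.eq)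
  obtain ⟨w, rfl⟩ := idempotent_mem_range hz
  refine ⟨Algebra.TensorProduct.map v (AlgHom.id K _) w, ?_⟩
  clear he hz hpow hS
  induction w using TensorProduct.induction_on with
  | zero => simp
  | tmul x a => simp [f]
  | add x y hx hy =>
    simp only [map_add]
    exact congrArg₂ (· + ·) hx hy

variable (L : Type u) [Field L] [Algebra K L]

local notation "Ω" => AlgebraicClosure L

set_option maxHeartbeats 1000000 in
/-- The maximal weakly étale subalgebra of `L ⊗ A` is generated by that of `A`. -/
theorem max_baseChange :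
    EtAlgD.maxWeaklyEtale L (L ⊗[K] A) =
      Algebra.adjoin L ((Algebra.TensorProduct.includeRight : A →ₐ[K] L ⊗[K] A) '' ((𝔅 : Subalgebra K A) : Set A)) := by
  classical
  haveI := Groth.Agent.S1977.result K A
  apply le_antisymm
  · intro x hx
    haveI := Groth.Agent.S1977.result L (L ⊗[K] A)
    set g := minpoly L (⟨x, hx⟩ : EtAlgD.maxWeaklyEtale L (L ⊗[K] A)) with hg
    have hsep : g.Separable := WEtFieldLib.separable_minpoly _
    have hgx : aeval x g = 0 := by
      have := congrArg Subtype.val (minpoly.aeval L (⟨x, hx⟩ : EtAlgD.maxWeaklyEtale L (L ⊗[K] A)))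
      rwa [Polynomial.aeval_subalgebra_coe] at this
    let ι : AlgebraicClosure K →ₐ[K] Ω := IsAlgClosed.lift
    letI : Algebra (AlgebraicClosure K) Ω := ι.toRingHom.toAlgebra
    haveI : IsScalarTower K (AlgebraicClosure K) Ω := IsScalarTower.of_algebraMap_eq fun x => (ι.commutes x).symm
    let φ : L ⊗[K] A →ₐ[L] Ω ⊗[K] A := Algebra.TensorProduct.map (Algebra.ofId L Ω) (AlgHom.id K A)
    let x' := φ x
    let gΩ := g.map (algebraMap L Ω)
    have hgx' : aeval x' gΩ = 0 := by
      rw [aeval_map_algebraMap, aeval_algHom_apply, hgx, map_zero]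
    let s := gΩ.roots.toFinset
    have hint : IsIntegral L (⟨x, hx⟩ : EtAlgD.maxWeaklyEtale L (L ⊗[K] A)) :=
      (WEtFieldLib.isIntegral (K := L)).isIntegral _
    have hnod : gΩ = Lagrange.nodal s id := by
      have hnd : gΩ.roots.Nodup := nodup_roots (hsep.map)
      rw [(IsAlgClosed.splits gΩ).eq_prod_roots_of_monic ((minpoly.monic hint).map _), Lagrange.nodal]
      show (gΩ.roots.map _).prod = (s.val.map _).prod
      rw [show s.val = gΩ.roots from (Multiset.toFinset_val _).trans (Multiset.dedup_eq_self.2 hnd)]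
      rfl
    have hvan : ∀ p : Polynomial Ω, (∀ α ∈ s, p.eval α = 0) → aeval x' p = 0 := by
      intro p hp
      obtain ⟨r, rfl⟩ : gΩ ∣ p := by
        rw [hnod, Lagrange.nodal]
        exact Finset.prod_dvd_of_coprime
          (fun a _ b _ hab => pairwise_coprime_X_sub_C Function.injective_id hab)
          (fun α hα => dvd_iff_isRoot.2 (hp α hα))
      rw [map_mul, hgx', zero_mul]
    let ε : Ω → Ω ⊗[K] A := fun α => aeval x' (Lagrange.basis s id α)
    have hval : ∀ α ∈ s, ∀ β ∈ s, (Lagrange.basis s id α).eval β = if α = β then 1 else 0 := by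
      intro α hα β hβ
      by_cases h : α = β
      · subst h; rw [if_pos rfl]; exact Lagrange.eval_basis_self Function.injective_id.injOn hα
      · rw [if_neg h]; exact Lagrange.eval_basis_of_ne (v := id) h hβ
    have hidem : ∀ α ∈ s, IsIdempotentElem (ε α) := by
      intro α hα
      refine sub_eq_zero.1 ?_
      rw [← map_mul, ← map_sub]
      exact hvan _ fun β hβ => by rw [eval_sub, eval_mul, hval α hα β hβ]; split_ifs <;> simp
    have hsum : x' = ∑ α ∈ s, algebraMap Ω (Ω ⊗[K] A) α * ε α := by
      have h0 := hvan (X - ∑ α ∈ s, C α * Lagrange.basis s id α) fun β hβ => by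
        simp only [eval_sub, eval_X, eval_finsetSum, eval_mul, eval_C]
        rw [Finset.sum_congr rfl fun α hα => by rw [hval α hα β hβ]]
        simp [hβ]
      simpa [sub_eq_zero, ε, map_sum] using h0
    let Kb := AlgebraicClosure K
    let ψ : Kb ⊗[K] A →ₐ[K] Ω ⊗[K] A := Algebra.TensorProduct.map ι (AlgHom.id K A)
    have hlift : ∀ y : Ω ⊗[K] A, IsIdempotentElem y → ∃ e, IsIdempotentElem e ∧ ψ e = y := by
      intro y hy
      let c := Algebra.TensorProduct.cancelBaseChange K Kb Ω Ω A
      let cm := Algebra.TensorProduct.comm Kb Ω (Kb ⊗[K] A)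
      have hS : ∀ (k' : Type u) [Field k'] [Algebra Kb k'], ConnectedSpace (PrimeSpectrum (k' ⊗[Kb] Ω)) := by
        intro k' _ _
        haveI : Nontrivial (k' ⊗[Kb] Ω) :=
          Algebra.TensorProduct.nontrivial_of_algebraMap_injective_of_flat_left (R := Kb) (A := k') (B := Ω)
            (algebraMap Kb Ω).injective
        exact ConnBC.connectedSpace_spec (ConnBC.trivIdem_tensor
          (IntermediateField.eq_bot_of_isAlgClosed_of_isAlgebraic _) Ω)
      obtain ⟨e, ⟨he, hee⟩, -⟩ := Groth.Agent.S9624.result hS (cm (c.symm y))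
        ((hy.map c.symm).map cm)
      refine ⟨e, he, ?_⟩
      have h1 : y = c (cm.symm (e ⊗ₜ[Kb] (1 : Ω))) := by
        rw [show e ⊗ₜ[Kb] (1 : Ω) = cm (c.symm y) from hee, cm.symm_apply_apply, c.apply_symm_apply]
      rw [h1]
      clear hee he h1 hy y
      induction e using TensorProduct.induction_on with
      | zero => simp
      | tmul a b => simp [ψ, cm, c, Algebra.smul_def]; rfl
      | add a b ha hb => simp only [map_add, TensorProduct.add_tmul, ha, hb]
    let 𝔅Ω := (Algebra.TensorProduct.map (AlgHom.id Ω Ω) (𝔅).val : Ω ⊗[K] 𝔅 →ₐ[Ω] Ω ⊗[K] A)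
    have hx' : x' ∈ 𝔅Ω.range := by
      rw [hsum]
      refine sum_mem fun α hα => mul_mem (Subalgebra.algebraMap_mem _ α) ?_
      obtain ⟨e, he, hee⟩ := hlift _ (hidem α hα)
      obtain ⟨w, rfl⟩ := idempotent_mem_range_algebraicClosure he
      rw [← hee]
      clear hee he
      refine ⟨Algebra.TensorProduct.map ι (AlgHom.id K _) w, ?_⟩
      induction w using TensorProduct.induction_on with
      | zero => simp
      | tmul a b => simp [ψ, 𝔅Ω]
      | add a b ha hb => simp only [map_add]; exact congrArg₂ (· + ·) ha hb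
    have hx'' : x ∈ LinearMap.range (LinearMap.lTensor L (𝔅).val.toLinearMap) := by
      let B' : Submodule K A := LinearMap.range (𝔅).val.toLinearMap
      have hex : Function.Exact (𝔅).val.toLinearMap B'.mkQ := LinearMap.exact_iff.2 (by simp [B'])
      rw [← LinearMap.exact_iff.1 (lTensor_exact L hex B'.mkQ_surjective)]
      have hinj : Function.Injective
          (LinearMap.rTensor (A ⧸ B') (IsScalarTower.toAlgHom K L Ω).toLinearMap) :=
        Module.Flat.rTensor_preserves_injective_linearMap _ (algebraMap L Ω).injective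
      apply hinj
      rw [map_zero]
      obtain ⟨w, hw⟩ := hx'
      have h1 : LinearMap.rTensor (A ⧸ B') (IsScalarTower.toAlgHom K L Ω).toLinearMap
          (LinearMap.lTensor L B'.mkQ x) = LinearMap.lTensor Ω B'.mkQ x' := by
        show _ = LinearMap.lTensor Ω B'.mkQ (φ x)
        clear hw hsep hgx hgx' hvan hidem hsum hint hx hg g gΩ s hnod ε hval hlift x'
        induction x using TensorProduct.induction_on with
        | zero => simp
        | tmul a b => simp [φ]
        | add a b ha hb => simp only [map_add, ha, hb]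
      rw [h1, ← hw]
      have h2 := (lTensor_exact Ω hex B'.mkQ_surjective).apply_apply_eq_zero w
      exact h2
    obtain ⟨w, rfl⟩ := hx''
    exact lTensor_mem_adjoin L w
  · rw [Algebra.adjoin_le_iff]
    rintro _ ⟨b, hb, rfl⟩
    let BL := (Algebra.TensorProduct.map (AlgHom.id L L) (𝔅).val : L ⊗[K] 𝔅 →ₐ[L] L ⊗[K] A)
    haveI := Groth.Agent.S1977.weaklyEtale_range BL
    exact WEtFieldLib.le_max BL.range ⟨1 ⊗ₜ ⟨b, hb⟩, rfl⟩

end Groth.Agent.WEtMaxLib
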